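import Groth.Agent.H15Site.ClosedPushAb
import Groth.Agent.H15Site.LocGen
import Groth.Agent.H15Site.SieveAcyclic

/-!
# Modules along a closed embedding of ringed spaces
-/

set_option autoImplicit false
set_option linter.style.haveILetI false
set_option linter.unusedSectionVars false
set_option backward.isDefEq.respectTransparency false
set_option backward.isDefEq.respectTransparency.types false

universe u

open CategoryTheory CategoryTheory.Limits Opposite TopologicalSpace

namespace Groth.Agent.H15Site.ClosedMod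

open ModTensor LocGen

attribute [local instance 10000] SiteInst.hasSheafifySite SiteInst.hasWeakSheafifySite

variable {Z X : TopCat.{u}} (i : Z ⟶ X)
  (O_Z : TopCat.Sheaf CommRingCat.{u} Z) (O_X : TopCat.Sheaf CommRingCat.{u} X)
  (c : O_X ⟶ ((Opens.map i).sheafPushforwardContinuous CommRingCat.{u}
    (Opens.grothendieckTopology X) (Opens.grothendieckTopology Z)).obj O_Z)

/-- The direct image of modules. -/
noncomputable abbrev P : ModSite.Mod O_Z ⥤ ModSite.Mod O_X :=
  (ModSite.RMor.ofFlat (Opens.map i) c).push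

/-- The comorphism on sections. -/
noncomputable abbrev cc (U : Opens X) : O_X.obj.obj (op U) →+* O_Z.obj.obj (op ((Opens.map i).obj U)) :=
  (c.hom.app (op U)).hom

variable {i O_Z O_X c}

theorem cc_res {U V : Opens X} (h : V ⟶ U) (a : O_X.obj.obj (op U)) :
    cc i O_Z O_X c V (O_X.obj.map h.op a) =
      O_Z.obj.map ((Opens.map i).map h).op (cc i O_Z O_X c U a) :=
  ConcreteCategory.congr_hom (c.hom.naturality h.op) a

/-- Local equality suffices. -/
theorem ext_nhds {T : TopCat.{u}} {O : TopCat.Sheaf CommRingCat.{u} T} (F : ModSite.Mod O) {U : Opens T}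
    (s t : ((forg O).obj F).obj (op U))
    (h : ∀ x ∈ U, ∃ (V : Opens T) (k : V ⟶ U), x ∈ V ∧
      rs ((forg O).obj F) k.op s = rs ((forg O).obj F) k.op t) : s = t := by
  let S : Sieve U :=
    { arrows := fun V k => rs ((forg O).obj F) k.op s = rs ((forg O).obj F) k.op t
      downward_closed := fun {V V'} k hk g => by
        show rs ((forg O).obj F) (g ≫ k).op s = rs ((forg O).obj F) (g ≫ k).op t
        rw [op_comp, ← rs_rs, ← rs_rs, hk] }
  have hS : S ∈ Opens.grothendieckTopology T U := fun x hx => by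
    obtain ⟨V, k, hxV, hk⟩ := h x hx
    exact ⟨V, k, hk, hxV⟩
  exact SieveAcyclic.eq_of_sieve (ModSite.toAb F) S hS s t fun {V} k hk => hk

theorem subsingleton_of_bot {T : TopCat.{u}} {O : TopCat.Sheaf CommRingCat.{u} T} (F : ModSite.Mod O)
    {U : Opens T} (hU : U = ⊥) : Subsingleton (((forg O).obj F).obj (op U)) :=
  ⟨fun s t => ext_nhds F s t fun x hx => absurd (hU ▸ hx : x ∈ (⊥ : Opens T)) (by simp)⟩

variable (c) in
/-- Local lifts of functions. -/
theorem exists_lift_nhd (hc : Sheaf.IsLocallySurjective c) {U : Opens X}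
    (a : O_Z.obj.obj (op ((Opens.map i).obj U))) (x : X) (hx : x ∈ U) :
    ∃ (V : Opens X) (k : V ⟶ U) (b : O_X.obj.obj (op V)), x ∈ V ∧
      cc i O_Z O_X c V b = O_Z.obj.map ((Opens.map i).map k).op a := by
  haveI : Presheaf.IsLocallySurjective (Opens.grothendieckTopology X) c.hom := hc
  obtain ⟨V, k, ⟨b, hb⟩, hxV⟩ := Presheaf.imageSieve_mem (Opens.grothendieckTopology X) c.hom a x hx
  exact ⟨V, k, b, hxV, hb⟩

theorem exists_eq_map (hi : Topology.IsInducing i) (W : Opens Z) :
    ∃ U : Opens X, (Opens.map i).obj U = W := by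
  obtain ⟨U, hU, hUW⟩ := hi.isOpen_iff.1 W.isOpen
  exact ⟨⟨U, hU⟩, Opens.ext hUW⟩

/-- Restriction of a linear combination. -/
theorem rs_comb {T : TopCat.{u}} {O : TopCat.Sheaf CommRingCat.{u} T} (M : PMod O) {U V : (Opens T)ᵒᵖ}
    (f : U ⟶ V) {n : ℕ} (r : Fin n → (O.obj ⋙ forget₂ CommRingCat.{u} RingCat.{u}).obj U) (m : Fin n → M.obj U) :
    rs M f (∑ j, r j • m j) = ∑ j, (O.obj ⋙ forget₂ CommRingCat.{u} RingCat.{u}).map f (r j) • rs M f (m j) :=
  (map_sum (M.presheaf.map f).hom _ _).trans (Finset.sum_congr rfl fun _ _ => rs_smul _ _ _ _)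

theorem faithful (hi : Topology.IsInducing i) : (P i O_Z O_X c).Faithful where
  map_injective {G H} φ ψ h := by
    refine SheafOfModules.Hom.ext (PresheafOfModules.hom_ext fun W => ?_)
    obtain ⟨W⟩ := W
    obtain ⟨U, rfl⟩ := exists_eq_map hi W
    refine ModuleCat.hom_ext (LinearMap.ext fun s => ?_)
    exact congrArg (fun k : (P i O_Z O_X c).obj G ⟶ (P i O_Z O_X c).obj H => (k.val.app (op U)).hom s) h

theorem full (hi : Topology.IsInducing i) (hc : Sheaf.IsLocallySurjective c) : (P i O_Z O_X c).Full where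
  map_surjective {G H} ψ := by
    let R := largestOpen i
    have hR : ∀ W, (Opens.map i).obj (R.obj W) = W := map_largestOpen i hi
    let η : ∀ U : Opens X, ((forg O_Z).obj G).obj (op ((Opens.map i).obj U)) →+
        ((forg O_Z).obj H).obj (op ((Opens.map i).obj U)) := fun U =>
      (show _ →+ _ from (ψ.val.app (op U)).hom.toAddMonoidHom)
    have hη : ∀ {U U' : Opens X} (k : U' ⟶ U) (s : ((forg O_Z).obj G).obj (op ((Opens.map i).obj U))),
        η U' (rs _ ((Opens.map i).map k).op s) = rs _ ((Opens.map i).map k).op (η U s) := fun k s =>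
      PresheafOfModules.naturality_apply ψ.val k.op s
    -- at an arbitrary open of `Z`
    let θ : ∀ W : Opens Z, ((forg O_Z).obj G).obj (op W) → ((forg O_Z).obj H).obj (op W) := fun W s =>
      rs _ (homOfLE (hR W).ge).op (η (R.obj W) (rs _ (homOfLE (hR W).le).op s))
    have key : ∀ (U : Opens X) (s : ((forg O_Z).obj G).obj (op ((Opens.map i).obj U))),
        θ ((Opens.map i).obj U) s = η U s := fun U s => by
      let k : U ⟶ R.obj ((Opens.map i).obj U) := (mapLargestOpenAdjunction i).unit.app U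
      show rs _ _ (η (R.obj ((Opens.map i).obj U)) _) = _
      rw [show (homOfLE (hR ((Opens.map i).obj U)).ge).op = ((Opens.map i).map k).op from Subsingleton.elim _ _,
        ← hη, rs_rs, show (homOfLE (hR ((Opens.map i).obj U)).le).op ≫ ((Opens.map i).map k).op = 𝟙 _ from
          Subsingleton.elim _ _, rs_id]
    have hnat : ∀ {W W' : Opens Z} (k : W' ⟶ W) (s : ((forg O_Z).obj G).obj (op W)),
        θ W' (rs _ k.op s) = rs _ k.op (θ W s) := by
      intro W W' k s
      show rs _ _ (η (R.obj W') (rs _ _ (rs _ k.op s))) = rs _ k.op (rs _ _ (η (R.obj W) (rs _ _ s)))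
      rw [rs_rs, show k.op ≫ (homOfLE (hR W').le).op = (homOfLE (hR W).le).op ≫ ((Opens.map i).map (R.map k)).op
        from Subsingleton.elim _ _, ← rs_rs, hη, rs_rs, rs_rs]
      rfl
    have hsmul : ∀ (W : Opens Z) (r : O_Z.obj.obj (op W)) (s : ((forg O_Z).obj G).obj (op W)),
        θ W (r • s) = r • θ W s := by
      intro W r s
      obtain ⟨U, rfl⟩ := exists_eq_map hi W
      refine ext_nhds H _ _ fun z hz => ?_
      obtain ⟨V, k, b, hzV, hb⟩ := exists_lift_nhd c hc r (i z) hz
      refine ⟨(Opens.map i).obj V, (Opens.map i).map k, hzV, ?_⟩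
      have hb' : ((ModSite.ringSh O_Z).obj.map ((Opens.map i).map k).op).hom r = cc i O_Z O_X c V b := hb.symm
      rw [← hnat, rs_smul, rs_smul, ← hnat, key, key]
      rw [show ((O_Z.obj ⋙ forget₂ CommRingCat RingCat).map ((Opens.map i).map k).op).hom r =
        cc i O_Z O_X c V b from hb']
      exact (ψ.val.app (op V)).hom.map_smul b _
    let φ₀ : ((forg O_Z).obj G).presheaf ⟶ ((forg O_Z).obj H).presheaf :=
      { app := fun W => AddCommGrpCat.ofHom (AddMonoidHom.mk' (θ W.unop) fun s t => by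
          show rs _ _ (η _ (rs _ _ (s + t))) = _
          rw [rs_add, map_add, rs_add])
        naturality := fun W W' k => by
          ext s
          exact hnat k.unop s }
    refine ⟨⟨PresheafOfModules.homMk φ₀ fun W r s => hsmul W.unop r s⟩, ?_⟩
    refine SheafOfModules.Hom.ext (PresheafOfModules.hom_ext fun U => ModuleCat.hom_ext (LinearMap.ext fun s => ?_))
    exact key U.unop s

theorem preservesFiniteColimits (hi : Topology.IsClosedEmbedding i) :
    PreservesFiniteColimits (P i O_Z O_X c) := by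
  haveI : (P i O_Z O_X c).IsRightAdjoint := (ModSite.RMor.ofFlat (Opens.map i) c).adj.isRightAdjoint
  haveI : PreservesFiniteLimits (P i O_Z O_X c) := inferInstance
  have h : PreservesFiniteLimits (P i O_Z O_X c) ∧ PreservesFiniteColimits (P i O_Z O_X c) :=
    ((P i O_Z O_X c).exact_tfae.out 0 3).mp (fun S hS => ?_)
  · exact h.2
  have := hS.mono_f
  have := hS.epi_g
  have : Mono (S.map (P i O_Z O_X c)).f := inferInstanceAs (Mono ((P i O_Z O_X c).map S.f))
  have : Epi (S.map (P i O_Z O_X c)).g := by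
    show Epi ((P i O_Z O_X c).map S.g)
    rw [epi_iff_locSurj]
    intro V t
    haveI : PreservesFiniteColimits (SheafOfModules.toSheaf.{u} (ModSite.ringSh O_Z)) :=
      Groth.Agent.H10Coh.preservesFiniteColimits_toSheaf _
    haveI : (SheafOfModules.toSheaf.{u} (ModSite.ringSh O_Z)).PreservesEpimorphisms :=
      preservesEpimorphisms_of_preservesColimitsOfShape _
    haveI := ClosedPushAb.push_map_epi i hi ((SheafOfModules.toSheaf.{u} (ModSite.ringSh O_Z)).map S.g)
    haveI : Presheaf.IsLocallySurjective (Opens.grothendieckTopology X)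
        ((CohTop.push i).map ((SheafOfModules.toSheaf.{u} (ModSite.ringSh O_Z)).map S.g)).hom :=
      (Sheaf.isLocallySurjective_iff_epi' AddCommGrpCat.{u} _).2 inferInstance
    exact ⟨_, Presheaf.imageSieve_mem (Opens.grothendieckTopology X)
      ((CohTop.push i).map ((SheafOfModules.toSheaf.{u} (ModSite.ringSh O_Z)).map S.g)).hom t,
      fun W h hh => by
        obtain ⟨z, hz⟩ := hh
        exact ⟨z, hz⟩⟩
  exact { exact := ShortComplex.exact_of_f_is_kernel _ (KernelFork.mapIsLimit _ hS.fIsKernel (P i O_Z O_X c)) }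

theorem smul_eq_zero_of_essImage {G : ModSite.Mod O_X} (hG : (P i O_Z O_X c).essImage G) (U : Opens X)
    (a : O_X.obj.obj (op U)) (ha : cc i O_Z O_X c U a = 0) (s : ((forg O_X).obj G).obj (op U)) : a • s = 0 := by
  obtain ⟨H, ⟨e⟩⟩ := hG
  have h : s = (e.hom.val.app (op U)).hom ((e.inv.val.app (op U)).hom s) :=
    (congrArg (fun k : G ⟶ G => (k.val.app (op U)).hom s) e.inv_hom_id).symm
  rw [h]
  refine ((e.hom.val.app (op U)).hom.map_smul a _).symm.trans ?_
  refine (congrArg (e.hom.val.app (op U)).hom ?_).trans (map_zero _)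
  show cc i O_Z O_X c U a • (show ((forg O_Z).obj H).obj (op ((Opens.map i).obj U)) from _) = 0
  rw [ha]
  exact zero_smul _ _

theorem isZero_stalk_of_ann {G : ModSite.Mod O_X}
    (hG : ∀ (U : Opens X) (a : O_X.obj.obj (op U)), cc i O_Z O_X c U a = 0 →
      ∀ s : ((forg O_X).obj G).obj (op U), a • s = 0) (hi : Topology.IsClosedEmbedding i) (x : X)
    (hx : x ∉ Set.range i) : IsZero (CohTop.stalk (ModSite.toAb G) x) := by
  refine @AddCommGrpCat.isZero_of_subsingleton _ (subsingleton_of_forall_eq 0 fun g => ?_)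
  obtain ⟨U, hxU, s, rfl⟩ := TopCat.Presheaf.germ_exist (ModSite.toAb G).obj g
  let V : Opens X := U ⊓ ⟨(Set.range i)ᶜ, hi.isClosed_range.isOpen_compl⟩
  have hb : (Opens.map i).obj V = ⊥ := le_bot_iff.1 fun z hz => absurd ⟨z, rfl⟩ hz.2
  haveI : Subsingleton (O_Z.obj.obj (op ((Opens.map i).obj V))) :=
    subsingleton_of_bot (SheafOfModules.unit (ModSite.ringSh O_Z)) hb
  rw [← TopCat.Presheaf.germ_res_apply (ModSite.toAb G).obj (homOfLE (inf_le_left : V ≤ U)) x ⟨hxU, hx⟩ s]
  have h0 : (1 : O_X.obj.obj (op V)) • rs ((forg O_X).obj G) (homOfLE (inf_le_left : V ≤ U)).op s = 0 :=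
    hG V 1 (Subsingleton.elim _ _) _
  rw [one_smul] at h0
  exact (congrArg (TopCat.Presheaf.germ (ModSite.toAb G).obj V x ⟨hxU, hx⟩).hom h0).trans (map_zero _)

set_option maxHeartbeats 800000 in
theorem essImage_of_ann (hi : Topology.IsClosedEmbedding i) (hc : Sheaf.IsLocallySurjective c)
    {G : ModSite.Mod O_X}
    (hG : ∀ (U : Opens X) (a : O_X.obj.obj (op U)), cc i O_Z O_X c U a = 0 →
      ∀ s : ((forg O_X).obj G).obj (op U), a • s = 0) :
    (P i O_Z O_X c).essImage G := by
  classical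
  obtain ⟨A, ⟨e⟩⟩ := (ClosedPushAb.essImage_push_iff i hi (ModSite.toAb G)).2
    (isZero_stalk_of_ann hG hi)
  let R := largestOpen i
  have hR : ∀ W, (Opens.map i).obj (R.obj W) = W := map_largestOpen i hi.isInducing
  let Gp := (forg O_X).obj G
  have hbij : ∀ {U U' : Opens X} (k : U ⟶ U'), (Opens.map i).obj U = (Opens.map i).obj U' →
      Function.Bijective (rs Gp k.op) := by
    intro U U' k hk
    haveI : IsIso ((Opens.map i).map k) :=
      ⟨eqToHom hk.symm, Subsingleton.elim _ _, Subsingleton.elim _ _⟩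
    let e' : (Opens.map i).op ⋙ A.obj ≅ (ModSite.toAb G).obj := (sheafToPresheaf _ _).mapIso e
    haveI : IsIso (((Opens.map i).op ⋙ A.obj).map k.op) :=
      inferInstanceAs (IsIso (A.obj.map ((Opens.map i).map k).op))
    haveI : IsIso ((ModSite.toAb G).obj.map k.op) := (NatIso.isIso_map_iff e' k.op).1 inferInstance
    exact ConcreteCategory.bijective_of_isIso ((ModSite.toAb G).obj.map k.op)
  -- scalar multiplication by functions on the closed subspace
  have hex : ∀ (W : Opens Z) (r : O_Z.obj.obj (op W)) (s : Gp.obj (op (R.obj W))),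
      ∃ t : Gp.obj (op (R.obj W)), ∀ {V : Opens X} (k : V ⟶ R.obj W) (a : O_X.obj.obj (op V)),
        cc i O_Z O_X c V a = O_Z.obj.map ((Opens.map i).map k ≫ homOfLE (hR W).le).op r →
          rs Gp k.op t = a • rs Gp k.op s := by
    intro W r s
    haveI : Presheaf.IsLocallySurjective (Opens.grothendieckTopology X) c.hom := hc
    let r' := O_Z.obj.map (homOfLE (hR W).le).op r
    let S := Presheaf.imageSieve c.hom (U := R.obj W) r'
    have huniq : ∀ {V : Opens X} (a b : O_X.obj.obj (op V)) (m : Gp.obj (op V)),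
        cc i O_Z O_X c V a = cc i O_Z O_X c V b → a • m = b • m := fun a b m h => by
      rw [← sub_eq_zero, ← sub_smul]
      exact hG _ _ (by rw [map_sub, h, sub_self]) m
    let f : S.functor ⟶ (ModSite.toAb G).obj ⋙ CategoryTheory.forget AddCommGrpCat.{u} :=
      { app := fun V => TypeCat.ofHom fun g => g.2.choose • rs Gp g.1.op s
        naturality := fun V V' h => by
          ext g
          show (S.functor.map h g).2.choose • rs Gp (h.unop ≫ g.1).op s = rs Gp h (g.2.choose • rs Gp g.1.op s)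
          rw [rs_smul, rs_rs]
          refine huniq _ _ _ ?_
          refine (S.functor.map h g).2.choose_spec.trans ?_
          refine Eq.trans ?_ (cc_res h.unop g.2.choose).symm
          refine Eq.trans ?_ (congrArg (O_Z.obj.map ((Opens.map i).map h.unop).op) g.2.choose_spec).symm
          exact ConcreteCategory.congr_hom (O_Z.obj.map_comp ((Opens.map i).map g.1).op ((Opens.map i).map h.unop).op) r' }
    obtain ⟨t, ht⟩ := SieveAcyclic.exists_amalgamate (ModSite.toAb G) S
      (Presheaf.imageSieve_mem (Opens.grothendieckTopology X) c.hom r') f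
    refine ⟨t, fun {V} k a ha => ?_⟩
    have hk : S k := ⟨a, ha.trans (ConcreteCategory.congr_hom
      (O_Z.obj.map_comp (homOfLE (hR W).le).op ((Opens.map i).map k).op) r)⟩
    refine (ht k hk).trans (huniq _ _ _ ?_)
    exact hk.choose_spec.trans ((ConcreteCategory.congr_hom
      (O_Z.obj.map_comp (homOfLE (hR W).le).op ((Opens.map i).map k).op) r).symm.trans ha.symm)
  choose m hm using hex
  have huniq : ∀ (W : Opens Z) (r : O_Z.obj.obj (op W)) (s t : Gp.obj (op (R.obj W))),
      (∀ {V : Opens X} (k : V ⟶ R.obj W) (a : O_X.obj.obj (op V)),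
        cc i O_Z O_X c V a = O_Z.obj.map ((Opens.map i).map k ≫ homOfLE (hR W).le).op r →
          rs Gp k.op t = a • rs Gp k.op s) → t = m W r s := by
    intro W r s t h
    refine ext_nhds G t (m W r s) fun x hx => ?_
    obtain ⟨V, k, a, hxV, ha⟩ := exists_lift_nhd c hc (O_Z.obj.map (homOfLE (hR W).le).op r) x hx
    have ha' : cc i O_Z O_X c V a = O_Z.obj.map ((Opens.map i).map k ≫ homOfLE (hR W).le).op r :=
      ha.trans (ConcreteCategory.congr_hom (O_Z.obj.map_comp (homOfLE (hR W).le).op ((Opens.map i).map k).op) r).symm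
    exact ⟨V, k, hxV, (h k a ha').trans (hm W r s k a ha').symm⟩
  -- uniqueness through two local lifts
  have hlift : ∀ (W : Opens Z) (r r' : O_Z.obj.obj (op W)) {x : X} (_ : x ∈ R.obj W),
      ∃ (V : Opens X) (k : V ⟶ R.obj W) (a a' : O_X.obj.obj (op V)), x ∈ V ∧
        cc i O_Z O_X c V a = O_Z.obj.map ((Opens.map i).map k ≫ homOfLE (hR W).le).op r ∧
        cc i O_Z O_X c V a' = O_Z.obj.map ((Opens.map i).map k ≫ homOfLE (hR W).le).op r' := by
    intro W r r' x hx
    obtain ⟨V₁, k₁, a, hx₁, ha⟩ := exists_lift_nhd c hc (O_Z.obj.map (homOfLE (hR W).le).op r) x hx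
    obtain ⟨V₂, k₂, a', hx₂, ha'⟩ := exists_lift_nhd c hc (O_Z.obj.map (homOfLE (hR W).le).op r') x hx
    refine ⟨V₁ ⊓ V₂, homOfLE inf_le_left ≫ k₁, O_X.obj.map (homOfLE inf_le_left).op a,
      O_X.obj.map (homOfLE inf_le_right).op a', ⟨hx₁, hx₂⟩, ?_, ?_⟩
    · rw [cc_res, ha, ← ConcreteCategory.comp_apply, ← ConcreteCategory.comp_apply, ← Functor.map_comp, ← Functor.map_comp]
      exact congrArg (fun k => O_Z.obj.map k r) (Subsingleton.elim _ _)
    · rw [cc_res, ha', ← ConcreteCategory.comp_apply, ← ConcreteCategory.comp_apply, ← Functor.map_comp, ← Functor.map_comp]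
      exact congrArg (fun k => O_Z.obj.map k r') (Subsingleton.elim _ _)
  have m_add : ∀ W r r' s, m W (r + r') s = m W r s + m W r' s := by
    intro W r r' s
    refine ext_nhds G _ _ fun x hx => ?_
    obtain ⟨V, k, a, a', hxV, ha, ha'⟩ := hlift W r r' hx
    refine ⟨V, k, hxV, ?_⟩
    rw [rs_add, hm W r s k a ha, hm W r' s k a' ha', hm W (r + r') s k (a + a') (by rw [map_add, ha, ha', map_add]),
      add_smul]
  have m_mul : ∀ W r r' s, m W (r * r') s = m W r (m W r' s) := by
    intro W r r' s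
    refine ext_nhds G _ _ fun x hx => ?_
    obtain ⟨V, k, a, a', hxV, ha, ha'⟩ := hlift W r r' hx
    refine ⟨V, k, hxV, ?_⟩
    rw [hm W r (m W r' s) k a ha, hm W r' s k a' ha', hm W (r * r') s k (a * a') (by rw [map_mul, ha, ha', map_mul]),
      mul_smul]
  have m_addr : ∀ W r s t, m W r (s + t) = m W r s + m W r t := fun W r s t =>
    (huniq W r (s + t) _ fun {V} k a ha => by rw [rs_add, hm W r s k a ha, hm W r t k a ha, rs_add, smul_add]).symm
  have m_one : ∀ W s, m W 1 s = s := fun W s =>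
    (huniq W 1 s s fun {V} k a ha => by
      rw [← one_smul (O_X.obj.obj (op V)) (rs Gp k.op s), ← mul_smul, mul_one]
      refine sub_eq_zero.1 ?_
      rw [← sub_smul]
      exact hG _ _ (by rw [map_sub, map_one, ha, map_one, sub_self]) _).symm
  -- the module on the closed subspace
  let Q : (Opens Z)ᵒᵖ ⥤ AddCommGrpCat.{u} := R.op ⋙ (ModSite.toAb G).obj
  have hQ : Presheaf.IsSheaf (Opens.grothendieckTopology Z) Q := by
    let cu : R ⋙ Opens.map i ≅ 𝟭 _ :=
      @asIso _ _ _ _ (mapLargestOpenAdjunction i).counit (isIso_mapLargestOpenAdjunction_counit i hi.isInducing)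
    exact (Presheaf.isSheaf_of_iso_iff
      (show A.obj ≅ Q from
        ((Functor.isoWhiskerRight (NatIso.op cu) A.obj :
          (𝟭 (Opens Z)).op ⋙ A.obj ≅ (R ⋙ Opens.map i).op ⋙ A.obj) :
            A.obj ≅ R.op ⋙ (Opens.map i).op ⋙ A.obj) ≪≫
          Functor.isoWhiskerLeft R.op ((sheafToPresheaf _ _).mapIso e))).1 A.property
  letI mods : ∀ W : (Opens Z)ᵒᵖ, Module ((ModSite.ringSh O_Z).obj.obj W) (Q.obj W) := fun W =>
    { smul := fun r s => m W.unop r s
      one_smul := fun s => m_one W.unop s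
      mul_smul := fun r r' s => m_mul W.unop r r' s
      smul_add := fun r s t => m_addr W.unop r s t
      add_smul := fun r r' s => m_add W.unop r r' s
      smul_zero := fun r => by
        have h := m_addr W.unop r 0 0
        rw [add_zero] at h
        exact left_eq_add.1 h
      zero_smul := fun s => by
        have h := m_add W.unop 0 0 s
        rw [add_zero] at h
        exact left_eq_add.1 h }
  have hsmul : ∀ ⦃W W' : (Opens Z)ᵒᵖ⦄ (f : W ⟶ W') (r : (ModSite.ringSh O_Z).obj.obj W) (s : Q.obj W),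
      Q.map f (r • s) = (ModSite.ringSh O_Z).obj.map f r • Q.map f s := by
    intro W W' f r s
    refine huniq W'.unop _ _ _ fun {V} k a ha => ?_
    show rs Gp k.op (rs Gp (R.map f.unop).op (m W.unop r s)) = a • rs Gp k.op (rs Gp (R.map f.unop).op s)
    rw [rs_rs, rs_rs]
    refine hm W.unop r s (k ≫ R.map f.unop) a (ha.trans ?_)
    refine (ConcreteCategory.congr_hom (O_Z.obj.map_comp f _) r).symm.trans ?_
    exact congrArg (fun k => O_Z.obj.map k r) (Subsingleton.elim _ _)
  let H : ModSite.Mod O_Z := ⟨PresheafOfModules.ofPresheaf Q hsmul, hQ⟩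
  let α : ∀ U : Opens X, ((forg O_X).obj ((P i O_Z O_X c).obj H)).obj (op U) →+ Gp.obj (op U) := fun U =>
    AddMonoidHom.mk' (fun s => rs Gp ((mapLargestOpenAdjunction i).unit.app U).op
      (show Gp.obj (op (R.obj ((Opens.map i).obj U))) from s)) fun s t => rs_add _ _ _ _
  let φ₀ : ((forg O_X).obj ((P i O_Z O_X c).obj H)).presheaf ⟶ Gp.presheaf :=
    { app := fun U => AddCommGrpCat.ofHom (α U.unop)
      naturality := fun U U' k => by
        ext s
        show rs Gp ((mapLargestOpenAdjunction i).unit.app U'.unop).op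
            (rs Gp (R.map ((Opens.map i).map k.unop)).op (show Gp.obj (op (R.obj ((Opens.map i).obj U.unop))) from s)) =
          rs Gp k (rs Gp ((mapLargestOpenAdjunction i).unit.app U.unop).op
            (show Gp.obj (op (R.obj ((Opens.map i).obj U.unop))) from s))
        rw [rs_rs, rs_rs]
        rfl }
  let φ : (P i O_Z O_X c).obj H ⟶ G := ⟨PresheafOfModules.homMk φ₀ fun U a s => by
    show rs Gp ((mapLargestOpenAdjunction i).unit.app U.unop).op
        (m ((Opens.map i).obj U.unop) (cc i O_Z O_X c U.unop a) (show Gp.obj (op (R.obj ((Opens.map i).obj U.unop))) from s)) =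
      a • rs Gp ((mapLargestOpenAdjunction i).unit.app U.unop).op
        (show Gp.obj (op (R.obj ((Opens.map i).obj U.unop))) from s)
    refine hm _ _ s _ a ?_
    refine (ConcreteCategory.congr_hom (O_Z.obj.map_id (op ((Opens.map i).obj U.unop))) _).symm.trans ?_
    exact congrArg (fun k => O_Z.obj.map k (cc i O_Z O_X c U.unop a)) (Subsingleton.elim _ _)⟩
  haveI : IsIso ((SheafOfModules.toSheaf.{u} (ModSite.ringSh O_X)).map φ) := by
    haveI : ∀ U, IsIso (φ₀.app U) := fun U => by
      rw [ConcreteCategory.isIso_iff_bijective]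
      exact hbij ((mapLargestOpenAdjunction i).unit.app U.unop) (hR _).symm
    haveI : IsIso φ₀ := NatIso.isIso_of_isIso_app _
    haveI : IsIso ((sheafToPresheaf _ _).map ((SheafOfModules.toSheaf.{u} (ModSite.ringSh O_X)).map φ)) := this
    exact isIso_of_reflects_iso ((SheafOfModules.toSheaf.{u} (ModSite.ringSh O_X)).map φ) (sheafToPresheaf _ _)
  haveI := isIso_of_reflects_iso φ (SheafOfModules.toSheaf.{u} (ModSite.ringSh O_X))
  exact ⟨H, ⟨asIso φ⟩⟩

theorem isFiniteType_push (hi : Topology.IsClosedEmbedding i) (hc : Sheaf.IsLocallySurjective c)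
    (F : ModSite.Mod O_Z) [SheafOfModules.IsFiniteType (R := ModSite.ringSh O_Z) F] :
    SheafOfModules.IsFiniteType (R := ModSite.ringSh O_X) ((P i O_Z O_X c).obj F) := by
  refine isFiniteType_of_gen_nhd fun x => ?_
  by_cases hx : x ∈ Set.range i
  · obtain ⟨z, rfl⟩ := hx
    obtain ⟨W, hzW, n, s, hs⟩ := exists_gen_nhd F z
    obtain ⟨U, rfl⟩ := exists_eq_map hi.isInducing W
    refine ⟨U, hzW, n, s, fun V g t => ?_⟩
    obtain ⟨S, hS, hS'⟩ := hs ((Opens.map i).map g) t
    let T : Sieve V :=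
      { arrows := fun V' h => ∃ r : Fin n → O_X.obj.obj (op V'),
          rs ((forg O_X).obj ((P i O_Z O_X c).obj F)) h.op t =
            ∑ j, r j • rs ((forg O_X).obj ((P i O_Z O_X c).obj F)) (h ≫ g).op (s j)
        downward_closed := fun {V' V''} h ⟨r, hr⟩ k => ⟨fun j => O_X.obj.map k.op (r j), by
          rw [op_comp, ← rs_rs, hr]
          refine (rs_comb ((forg O_X).obj ((P i O_Z O_X c).obj F)) k.op r _).trans ?_
          refine Finset.sum_congr rfl fun j _ => ?_
          rw [rs_rs]
          rfl⟩ }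
    refine ⟨T, ?_, fun V' h hh => hh⟩
    intro y hy
    by_cases hyr : y ∈ Set.range i
    · obtain ⟨w, rfl⟩ := hyr
      obtain ⟨W', k, hk, hwW⟩ := hS w hy
      obtain ⟨r, hr⟩ := hS' k hk
      obtain ⟨U', rfl⟩ := exists_eq_map hi.isInducing W'
      choose V' k' b hb₁ hb₂ using fun j => exists_lift_nhd c hc (r j) (i w) hwW
      let V'' : Opens X := V ⊓ U' ⊓ Finset.univ.inf V'
      have hle : ∀ j, V'' ≤ V' j := fun j => inf_le_right.trans (Finset.inf_le (Finset.mem_univ j))
      refine ⟨V'', homOfLE (inf_le_left.trans inf_le_left), ⟨fun j => O_X.obj.map (homOfLE (hle j)).op (b j), ?_⟩,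
        ⟨hy, hwW⟩, ?_⟩
      · let q : (Opens.map i).obj V'' ⟶ (Opens.map i).obj U' :=
          (Opens.map i).map (homOfLE (inf_le_left.trans inf_le_right))
        show rs ((forg O_Z).obj F) ((Opens.map i).map (homOfLE (inf_le_left.trans inf_le_left : V'' ≤ V))).op t =
          ∑ j, cc i O_Z O_X c V'' (O_X.obj.map (homOfLE (hle j)).op (b j)) •
            rs ((forg O_Z).obj F) ((Opens.map i).map (homOfLE (inf_le_left.trans inf_le_left : V'' ≤ V) ≫ g)).op (s j)
        rw [show ((Opens.map i).map (homOfLE (inf_le_left.trans inf_le_left : V'' ≤ V))).op = k.op ≫ q.op from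
          Subsingleton.elim _ _, ← rs_rs, hr]
        refine (rs_comb ((forg O_Z).obj F) q.op r _).trans ?_
        refine Finset.sum_congr rfl fun j _ => ?_
        rw [rs_rs, cc_res, hb₂ j]
        congr 1
        exact ((ConcreteCategory.congr_hom (O_Z.obj.map_comp _ _) (r j)).symm.trans
          (congrArg (fun e => O_Z.obj.map e (r j)) (Subsingleton.elim _ q.op))).symm
      · exact Finset.inf_induction (s := Finset.univ) (f := V') (p := fun W : Opens X => i w ∈ W)
          trivial (fun a ha b hb => ⟨ha, hb⟩) fun j _ => hb₁ j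
    · let V'' : Opens X := V ⊓ ⟨(Set.range i)ᶜ, hi.isClosed_range.isOpen_compl⟩
      have hb : (Opens.map i).obj V'' = ⊥ := le_bot_iff.1 fun z hz => absurd ⟨z, rfl⟩ hz.2
      haveI := subsingleton_of_bot F hb
      refine ⟨V'', homOfLE inf_le_left, ⟨0, ?_⟩, hy, hyr⟩
      exact Subsingleton.elim (α := ((forg O_Z).obj F).obj (op ((Opens.map i).obj V''))) _ _
  · refine ⟨⟨(Set.range i)ᶜ, hi.isClosed_range.isOpen_compl⟩, hx, 0, Fin.elim0, fun V g t => ?_⟩
    refine ⟨⊤, (Opens.grothendieckTopology X).top_mem V, fun W h _ => ⟨Fin.elim0, ?_⟩⟩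
    have hb : (Opens.map i).obj W = ⊥ := le_bot_iff.1 fun z hz => absurd ⟨z, rfl⟩ ((h ≫ g).le hz)
    haveI := subsingleton_of_bot F hb
    exact Subsingleton.elim (α := ((forg O_Z).obj F).obj (op ((Opens.map i).obj W))) _ _

theorem isFiniteType_of_push (hi : Topology.IsClosedEmbedding i) (F : ModSite.Mod O_Z)
    [SheafOfModules.IsFiniteType (R := ModSite.ringSh O_X) ((P i O_Z O_X c).obj F)] :
    SheafOfModules.IsFiniteType (R := ModSite.ringSh O_Z) F := by
  refine isFiniteType_of_gen_nhd fun z => ?_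
  obtain ⟨U, hzU, n, s, hs⟩ := exists_gen_nhd ((P i O_Z O_X c).obj F) (i z)
  refine ⟨(Opens.map i).obj U, hzU, n, s, fun W g t => ?_⟩
  obtain ⟨U', hU'⟩ := exists_eq_map hi.isInducing W
  have hW : W ≤ (Opens.map i).obj (U' ⊓ U) := fun w hw => ⟨(hU'.symm ▸ hw : w ∈ (Opens.map i).obj U'), g.le hw⟩
  have hW' : (Opens.map i).obj (U' ⊓ U) ≤ W := fun w hw => hU' ▸ hw.1
  obtain ⟨S, hS, hS'⟩ := hs (homOfLE (inf_le_right : U' ⊓ U ≤ U)) (rs ((forg O_Z).obj F) (homOfLE hW').op t)
  let T : Sieve W :=
    { arrows := fun W' h => ∃ r : Fin n → O_Z.obj.obj (op W'),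
        rs ((forg O_Z).obj F) h.op t = ∑ j, r j • rs ((forg O_Z).obj F) (h ≫ g).op (s j)
      downward_closed := fun {W' W''} h ⟨r, hr⟩ k => ⟨fun j => O_Z.obj.map k.op (r j), by
        rw [op_comp, ← rs_rs, hr]
        refine (rs_comb ((forg O_Z).obj F) k.op r _).trans ?_
        refine Finset.sum_congr rfl fun j _ => ?_
        rw [rs_rs]
        rfl⟩ }
  refine ⟨T, ?_, fun W' h hh => hh⟩
  intro w hw
  obtain ⟨V, k, hk, hwV⟩ := hS (i w) (hW hw)
  obtain ⟨r, hr⟩ := hS' k hk
  refine ⟨(Opens.map i).obj V, homOfLE (((Opens.map i).map k).le.trans hW'),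
    ⟨fun j => cc i O_Z O_X c V (r j), ?_⟩, hwV⟩
  refine Eq.trans ?_ (hr.trans (Finset.sum_congr rfl fun j _ => ?_))
  · show _ = rs ((forg O_Z).obj F) ((Opens.map i).map k).op (rs ((forg O_Z).obj F) (homOfLE hW').op t)
    rw [rs_rs]
    rfl
  · show cc i O_Z O_X c V (r j) • rs ((forg O_Z).obj F)
      ((Opens.map i).map (k ≫ homOfLE (inf_le_right : U' ⊓ U ≤ U))).op (s j) = _
    rfl

end Groth.Agent.H15Site.ClosedMod
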